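import Cfsg.Agent.H388.HNF.Defs
import Cfsg.Agent.H651.HNF.Raw
import Cfsg.Agent.H320.O8.Facts
import Cfsg.Agent.OrdDiv.Main
import Cfsg.Agent.S0817

/-!
# S4908, row FROB of HN: subgroups with a normal subgroup `Ω₈⁺(2)` (helper946)

* `cent_eq_one` : a subgroup `S` with an element of order 9 and of order not dividing a centralizer has trivial centralizer;
* `card_le_aut` : `|T| ≤ |Aut S|`;
* `bd_o8` : `|S| = 174182400`.
-/

set_option autoImplicit false

namespace Cfsg.Agent.H946.HNF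

open Cfsg Subgroup Cfsg.Agent.OrdDiv Cfsg.Agent.H651.HNF

universe u

/-- a normal subgroup with trivial centralizer -/
theorem card_le_aut {G : Type u} [Group G] [Finite G] {T S : Subgroup G} (hST : S ≤ T)
    (hn : ∀ g ∈ T, ∀ s ∈ S, g * s * g⁻¹ ∈ S) (hc : ∀ g ∈ T, (∀ s ∈ S, g * s = s * g) → g = 1) :
    Nat.card T ≤ Nat.card (MulAut S) := by
  have hN : (S.subgroupOf T).Normal := ⟨fun s hs g => hn g g.2 s hs⟩
  let f : T →* MulAut (S.subgroupOf T) := MulAut.conjNormal
  have hf : Function.Injective f := by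
    rw [injective_iff_map_eq_one]
    intro g hg
    apply Subtype.ext
    refine hc g g.2 fun s hs => ?_
    have h1 : (f g ⟨⟨s, hST hs⟩, hs⟩ : S.subgroupOf T) = ⟨⟨s, hST hs⟩, hs⟩ := by rw [hg]; rfl
    have h2 := congrArg (fun z : S.subgroupOf T => ((z : T) : G)) h1
    rw [MulAut.conjNormal_apply] at h2
    have h3 : (g : G) * s * (g : G)⁻¹ = s := h2
    exact mul_inv_eq_iff_eq_mul.1 h3
  have h1 := Nat.card_le_card_of_injective f hf
  rwa [Nat.card_congr (MulAut.congr (subgroupOfEquivOfLe hST)).toEquiv] at h1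

/-- the primes -/
theorem prime_mem {p : ℕ} (hp : p.Prime) (h : p ∣ 273030912000000) :
    p = 2 ∨ p = 3 ∨ p = 5 ∨ p = 7 ∨ p = 11 ∨ p = 19 := by
  have h1 : 273030912000000 = 2 ^ 14 * (3 ^ 6 * (5 ^ 6 * (7 * (11 * 19)))) := by norm_num
  rw [h1] at h
  have key : ∀ {r k : ℕ}, r.Prime → p ∣ r ^ k → p = r := fun hr hd =>
    (Nat.prime_dvd_prime_iff_eq hp hr).1 (hp.dvd_of_dvd_pow hd)
  rcases hp.dvd_mul.1 h with h | h
  · exact Or.inl (key Nat.prime_two h)
  rcases hp.dvd_mul.1 h with h | h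
  · exact Or.inr (Or.inl (key Nat.prime_three h))
  rcases hp.dvd_mul.1 h with h | h
  · exact Or.inr (Or.inr (Or.inl (key Nat.prime_five h)))
  rcases hp.dvd_mul.1 h with h | h
  · exact Or.inr (Or.inr (Or.inr (Or.inl ((Nat.prime_dvd_prime_iff_eq hp (by norm_num)).1 h))))
  rcases hp.dvd_mul.1 h with h | h
  · exact Or.inr (Or.inr (Or.inr (Or.inr (Or.inl ((Nat.prime_dvd_prime_iff_eq hp (by norm_num)).1 h)))))
  · exact Or.inr (Or.inr (Or.inr (Or.inr (Or.inr ((Nat.prime_dvd_prime_iff_eq hp (by norm_num)).1 h)))))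

/-- **the centralizer is trivial** -/
theorem cent_eq_one {H : Type} [Group H] [Finite H] (R : Raw H)
    (h45 : ∀ b x : H, orderOf b = 5 → orderOf x = 9 → b * x ≠ x * b) {S : Subgroup H} {n : ℕ} (hc : Nat.card S = n)
    (hd : ∀ c ∈ [177408000, 3686400, 544320, 29160, 420, 22, 19], ¬ n ∣ c) (h9 : ∃ y ∈ S, orderOf y = 9) {g : H}
    (hg : ∀ s ∈ S, g * s = s * g) : g = 1 := by
  by_contra hne
  have h1 : orderOf g ≠ 1 := fun h => hne (orderOf_eq_one_iff.1 h)
  obtain ⟨p, hp, hpd⟩ := Nat.exists_prime_and_dvd h1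
  have hpos := orderOf_pos g
  set x := g ^ (orderOf g / p) with hx
  have hox : orderOf x = p := by
    rw [hx, orderOf_pow_of_dvd (by
      have := Nat.div_pos (Nat.le_of_dvd hpos hpd) hp.pos
      omega) (Nat.div_dvd_of_dvd hpd), Nat.div_div_self hpd hpos.ne']
  have hxS : ∀ s ∈ S, x * s = s * x := fun s hs => ((show Commute g s from hg s hs).pow_left _).eq
  have hle : S ≤ centralizer ({x} : Set H) := fun s hs => mem_centralizer_singleton_iff.2 (hxS s hs).symm
  have hdv : n ∣ cn x := hc ▸ card_dvd_of_le hle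
  have hpH : p ∣ 273030912000000 := by rw [← R.card, ← hox]; exact orderOf_dvd_natCard x
  rcases prime_mem hp hpH with rfl | rfl | rfl | rfl | rfl | rfl
  · rcases R.r2 x hox with h | h
    · exact hd 177408000 (by simp) (h ▸ hdv)
    · exact hd 3686400 (by simp) (h ▸ hdv)
  · rcases R.r3 x hox with h | h
    · exact hd 544320 (by simp) (h ▸ hdv)
    · exact hd 29160 (by simp) (h ▸ hdv)
  · obtain ⟨y, hy, ho⟩ := h9
    exact h45 x y hox ho (hxS y hy)
  · exact hd 420 (by simp) (R.r7 x hox ▸ hdv)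
  · exact hd 22 (by simp) (R.r11 x hox ▸ hdv)
  · exact hd 19 (by simp) (R.r19 x hox ▸ hdv)

/-- the simple groups of order `|Ω₈⁺(2)|` -/
theorem real_o8 (OT : OrderTable.{0}) (hS : ∀ (X : Type) [Group X] [Finite X], IsSimpleGroup X → IsKnownSimple' X)
    {S : Type} [Group S] [Finite S] (hs : IsSimpleGroup S) (hc : Nat.card S = 174182400) :
    ∃ (F : Type) (_ : Field F) (_ : Fintype F), Fintype.card F = 2 ∧ Nonempty (S ≃* POmega F (quadFormPlus 4 F)) := by
  have hna : ¬ ∀ a b : S, a * b = b * a := by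
    intro h
    obtain ⟨y, hy⟩ : ∃ y : S, orderOf y = 2 := by
      have : Fact (Nat.Prime 2) := ⟨Nat.prime_two⟩
      exact exists_prime_orderOf_dvd_card' 2 (by rw [hc]; norm_num)
    have hn : (zpowers y).Normal := ⟨fun z hz g => by rw [h g z, mul_inv_cancel_right]; exact hz⟩
    have h2 : Nat.card (zpowers y) = 2 := by rw [Nat.card_zpowers, hy]
    rcases hs.eq_bot_or_eq_top_of_normal _ hn with h1 | h1
    · rw [h1, card_bot] at h2
      omega
    · rw [h1, card_top, hc] at h2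
      omega
  obtain ⟨g, hg, hreal⟩ := exists_real_filter OT (S := S) (hS S hs) hna
    (l := [(2, 12), (3, 5), (5, 2), (7, 1)]) (N := 174182400) (by decide +kernel) (by rw [hc])
    (fun o => o == 174182400) (by rw [hc]; rfl)
  have hj : ((cands [(2, 12), (3, 5), (5, 2), (7, 1)] 174182400).filter fun g => ordN g == 174182400).all
      (fun g => match g with
        | .oplus m q => m == 4 && q == 2
        | _ => false) = true := by decide +kernel
  rw [List.all_eq_true] at hj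
  have hj' := hj g hg
  cases g with
  | oplus m q =>
    have hmq : (m == 4 && q == 2) = true := hj'
    rw [Bool.and_eq_true, beq_iff_eq, beq_iff_eq] at hmq
    obtain ⟨rfl, rfl⟩ := hmq
    exact hreal
  | _ => exact absurd hj' Bool.false_ne_true

/-- **`Ω₈⁺(2)`.** -/
theorem bd_o8_of (OT : OrderTable.{0}) (hK : ∀ (X : Type) [Group X] [Finite X], IsSimpleGroup X → IsKnownSimple' X)
    (R : Raw Spor.HN) (h45 : ∀ b x : Spor.HN, orderOf b = 5 → orderOf x = 9 → b * x ≠ x * b) {T S : Subgroup Spor.HN}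
    (hST : S ≤ T) (hn : ∀ g ∈ T, ∀ s ∈ S, g * s * g⁻¹ ∈ S) (hs : IsSimpleGroup S) (hc : Nat.card S = 174182400) :
    Cfsg.Agent.H388.HNF.Bd T := by
  have hfin : Finite Spor.HN := Nat.finite_of_card_ne_zero (by rw [R.card]; norm_num)
  obtain ⟨F, _, _, hF, ⟨e⟩⟩ := real_o8 OT hK hs hc
  have hf := Cfsg.Agent.H320.O8.fct_T hF
  have two : Fact (Nat.Prime 2) := ⟨Nat.prime_two⟩
  have haut : Nat.card (MulAut S) = 1045094400 := by
    rw [Nat.card_congr (MulAut.congr e).toEquiv, Cfsg.Agent.S0817.result 2 1 le_rfl (by rw [hF, pow_one]) 4 le_rfl,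
      ← Nat.card_congr e.toEquiv, hc]
    norm_num
  obtain ⟨y8, hy8⟩ := hf.e8
  obtain ⟨y9, hy9⟩ := hf.e9
  have h9 : ∃ y ∈ S, orderOf y = 9 :=
    ⟨(e.symm y9 : S), (e.symm y9).2, by rw [Subgroup.orderOf_coe, MulEquiv.orderOf_eq, hy9]⟩
  have h4 : ∃ z ∈ T, orderOf z = 4 := by
    refine ⟨((e.symm y8 : S) : Spor.HN) ^ 2, pow_mem (hST (e.symm y8).2) _, ?_⟩
    have h1 : orderOf ((e.symm y8 : S) : Spor.HN) = 8 := by rw [Subgroup.orderOf_coe, MulEquiv.orderOf_eq, hy8]
    rw [orderOf_pow_of_dvd (by norm_num) (by rw [h1]; norm_num), h1]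
  have h1 := card_le_aut hST hn fun g _ hg => cent_eq_one R h45 hc (by decide) h9 hg
  rw [haut] at h1
  have h7 : 7 ∣ Nat.card T := (by rw [hc]; norm_num : 7 ∣ Nat.card S).trans (card_dvd_of_le hST)
  exact Or.inr (Or.inr (Or.inl ⟨h7, h1.trans (by norm_num), h4⟩))

end Cfsg.Agent.H946.HNF
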