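import Cfsg.Agent.H388.HNF.Defs
import Cfsg.Agent.H651.HNF.Raw
import Cfsg.Agent.H904.SylOne

/-!
# S4908, row FROB of HN: subgroups with a normal subgroup of order divisible by 11 (helper946)

* `syl_eleven` : `|T| |N_S(P)| = |S| |N_T(P)|`, `|N_T(P)| ∣ 220`, `|S : N_S(P)| ≡ 1 (mod 11)`;
* `bd_eleven` : `Bd T` if `|S|` is the order of a simple group, `11 ∣ |S|`, `19 ∤ |T|`.
-/

set_option autoImplicit false

namespace Cfsg.Agent.H946.HNF

open Cfsg Subgroup Cfsg.Agent.H651.HNF

/-- Frattini and the Sylow congruence at 11 -/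
theorem syl_eleven {H : Type} [Group H] [Finite H] (R : Raw H) {T S : Subgroup H} (hST : S ≤ T)
    (hn : ∀ g ∈ T, ∀ s ∈ S, g * s * g⁻¹ ∈ S) (h11 : 11 ∣ Nat.card S) :
    ∃ m k n : ℕ, k ∣ 220 ∧ m ∣ k ∧ 11 ∣ m ∧ Nat.card S = m * n ∧ n % 11 = 1 ∧ Nat.card T * m = Nat.card S * k := by
  have e11 : Nat.Prime 11 := by norm_num
  have : Fact (Nat.Prime 11) := ⟨e11⟩
  set N : Subgroup T := S.subgroupOf T with hN
  have hNn : N.Normal := ⟨fun s hs g => hn g g.2 s hs⟩
  have hNc : Nat.card N = Nat.card S := Nat.card_congr (subgroupOfEquivOfLe hST).toEquiv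
  have h121 : ¬ 11 ^ 2 ∣ Nat.card H := by rw [R.card]; norm_num
  have h121T : ¬ 11 ^ 2 ∣ Nat.card T := fun h => h121 (h.trans (card_subgroup_dvd_card T))
  have h121N : ¬ 11 ^ 2 ∣ Nat.card N := fun h => h121T (h.trans (card_subgroup_dvd_card N))
  obtain ⟨P⟩ : Nonempty (Sylow 11 N) := inferInstance
  have hPc : Nat.card (P : Subgroup N) = 11 := by
    obtain ⟨k, hk⟩ := (IsPGroup.iff_card.1 P.2)
    have h1 : 11 ∣ Nat.card N := by rw [hNc]; exact h11
    have h2 : k ≠ 0 := by
      rintro rfl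
      rw [pow_zero] at hk
      have h3 := P.dvd_card_of_dvd_card h1
      rw [hk] at h3
      omega
    have h3 : k < 2 := by
      by_contra hlt
      exact h121N (((pow_dvd_pow 11 (not_lt.1 hlt)).trans hk.symm.dvd).trans (card_subgroup_dvd_card _))
    have h4 : k = 1 := by omega
    rw [hk, h4, pow_one]
  set Q : Subgroup T := (P : Subgroup N).map N.subtype with hQ
  have hQN : Q ≤ N := map_subtype_le _
  have hQc : Nat.card Q = 11 := by
    rw [← hPc]
    exact (Nat.card_congr ((P : Subgroup N).equivMapOfInjective N.subtype N.subtype_injective).toEquiv).symm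
  set K : Subgroup T := normalizer (Q : Set T) with hK
  have hKN : K ⊔ N = ⊤ := Sylow.normalizer_sup_eq_top P
  -- `|K| ∣ 220`
  obtain ⟨e, he, hKc⟩ := H904.SylOne.card_nc hQc
  have hC : Nat.card (centralizer (Q : Set T)) ∣ 22 := by
    obtain ⟨x, hx⟩ := exists_prime_orderOf_dvd_card' (G := Q) 11 (by rw [hQc])
    have hxH : orderOf ((x : T) : H) = 11 := by rw [Subgroup.orderOf_coe, Subgroup.orderOf_coe, hx]
    rw [← R.r11 _ hxH]
    refine card_dvd_of_injective (⟨⟨fun c : centralizer (Q : Set T) =>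
      (⟨((c : T) : H), ?_⟩ : centralizer ({((x : T) : H)} : Set H)), rfl⟩, fun _ _ => rfl⟩ :
        centralizer (Q : Set T) →* centralizer ({((x : T) : H)} : Set H)) ?_
    · rw [mem_centralizer_singleton_iff]
      have h1 := (mem_centralizer_iff.1 c.2) x x.2
      exact (congrArg Subtype.val h1).symm
    · intro a b hab
      have h1 := congrArg (fun z : centralizer ({((x : T) : H)} : Set H) => (z : H)) hab
      exact Subtype.ext (Subtype.ext h1)
  have hK220 : Nat.card K ∣ 220 := by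
    rw [hK, hKc]
    exact Nat.mul_dvd_mul hC he
  -- the order of `T`
  have h1 : N.relIndex K = N.index := by
    have h2 := relIndex_sup_right (H := K) (K := N)
    rw [hKN, relIndex_top_right] at h2
    exact h2.symm
  have h2 : Nat.card (N.subgroupOf K) * N.relIndex K = Nat.card K := card_mul_index _
  have h3 : Nat.card N * N.index = Nat.card T := card_mul_index _
  have h4 : Nat.card (N.subgroupOf K) = Nat.card (K.subgroupOf N) := by
    rw [← inf_subgroupOf_right N K, ← inf_subgroupOf_right K N,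
      Nat.card_congr (subgroupOfEquivOfLe (inf_le_right : N ⊓ K ≤ K)).toEquiv,
      Nat.card_congr (subgroupOfEquivOfLe (inf_le_right : K ⊓ N ≤ N)).toEquiv, inf_comm]
  -- the Sylow number
  have h5 : (K.subgroupOf N) = normalizer ((P : Subgroup N) : Set N) := by
    have h6 : Q.subgroupOf N = P := by
      rw [hQ]
      exact comap_map_eq_self_of_injective N.subtype_injective _
    rw [← h6]
    exact subgroupOf_normalizer_eq hQN
  have h6 := Sylow.card_eq_index_normalizer P
  have h7 := card_sylow_modEq_one 11 N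
  rw [h6] at h7
  have h8 : Nat.card (K.subgroupOf N) * (K.subgroupOf N).index = Nat.card N := card_mul_index _
  have h9 : 11 ∣ Nat.card (K.subgroupOf N) := by
    have h10 : Nat.card (P : Subgroup N) ∣ Nat.card (normalizer ((P : Subgroup N) : Set N)) :=
      card_dvd_of_le le_normalizer
    rw [hPc] at h10
    rw [h5]
    exact h10
  refine ⟨Nat.card (K.subgroupOf N), Nat.card K, (K.subgroupOf N).index, hK220, ?_, h9, ?_, ?_, ?_⟩
  · rw [← h4, ← h2]
    exact Dvd.intro _ rfl
  · rw [h8, hNc]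
  · rw [h5]
    exact h7
  · rw [← h3, ← hNc, ← h2, h1, h4]
    ring

/-- **11** -/
theorem bd_eleven (R : Raw Spor.HN) {T S : Subgroup Spor.HN} (hST : S ≤ T) (hn : ∀ g ∈ T, ∀ s ∈ S, g * s * g⁻¹ ∈ S)
    {s : ℕ} (hc : Nat.card S = s)
    (hs : s ∈ [60, 168, 360, 504, 660, 2520, 3420, 6048, 7920, 20160, 25920, 95040, 126000, 175560, 181440, 443520,
      604800, 1451520, 1814400, 3265920, 5515776, 13685760, 19958400, 44352000, 174182400, 239500800, 898128000,
      273030912000000])
    (h11 : 11 ∣ s) (h19 : ¬ 19 ∣ Nat.card T) : Cfsg.Agent.H388.HNF.Bd T := by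
  have hfin : Finite Spor.HN := Nat.finite_of_card_ne_zero (by rw [R.card]; norm_num)
  obtain ⟨m, k, n, hk, hm, hm11, hmn, hn1, hT⟩ := syl_eleven R hST hn (by rw [hc]; exact h11)
  have hST' : Nat.card S ∣ Nat.card T := card_dvd_of_le hST
  rw [hc] at hmn hT hST'
  have hT11 : 11 ∣ Nat.card T := h11.trans hST'
  have hk0 := Nat.le_of_dvd (by norm_num) hk
  have hkpos : 0 < k := Nat.pos_of_dvd_of_pos hk (by norm_num)
  have hmpos : 0 < m := Nat.pos_of_dvd_of_pos hm hkpos
  have hm0 : 11 ≤ m := Nat.le_of_dvd hmpos hm11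
  have hle : Nat.card T * 11 ≤ s * 220 :=
    (Nat.mul_le_mul_left _ hm0).trans (hT.le.trans (Nat.mul_le_mul_left _ hk0))
  by_cases h4 : s ≤ 44352000
  · exact Or.inr (Or.inr (Or.inr (Or.inl ⟨hT11, by omega⟩)))
  have hs' : s = 174182400 ∨ s = 239500800 ∨ s = 898128000 ∨ s = 273030912000000 := by
    simp only [List.mem_cons, List.not_mem_nil, or_false] at hs
    omega
  have hdiv : m = 1 ∨ m = 2 ∨ m = 4 ∨ m = 5 ∨ m = 10 ∨ m = 11 ∨ m = 20 ∨ m = 22 ∨ m = 44 ∨ m = 55 ∨ m = 110 ∨ m = 220 := by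
    have h1 : m ∈ Nat.divisors 220 := Nat.mem_divisors.2 ⟨hm.trans hk, by norm_num⟩
    have h2 : Nat.divisors 220 = {1, 2, 4, 5, 10, 11, 20, 22, 44, 55, 110, 220} := by decide +kernel
    rw [h2] at h1
    simpa using h1
  rcases hs' with rfl | rfl | rfl | rfl
  · omega
  · have h55 : m = 55 := by
      rcases hdiv with rfl | rfl | rfl | rfl | rfl | rfl | rfl | rfl | rfl | rfl | rfl | rfl <;> omega
    subst h55
    exact Or.inr (Or.inr (Or.inr (Or.inl ⟨hT11, by omega⟩)))
  · have h55 : m = 55 := by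
      rcases hdiv with rfl | rfl | rfl | rfl | rfl | rfl | rfl | rfl | rfl | rfl | rfl | rfl <;> omega
    subst h55
    exact Or.inr (Or.inr (Or.inr (Or.inr (Or.inl ⟨(by norm_num : 77 ∣ 898128000).trans hST', by omega⟩))))
  · exact absurd ((by norm_num : 19 ∣ 273030912000000).trans hST') h19

end Cfsg.Agent.H946.HNF
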